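import Groth.Agent.Et18.ASPunct.SuppLES
import Groth.Agent.EtASLib.ZarGa
import Groth.Agent.CAlgH3.PuncturedCoh
import Groth.Agent.FEtFF.Punctured
import Groth.Agent.LocCoh.Depth
import Groth.Agent.DCat.CohDimShift
import Groth.Prelude.Def_FEt

/-!
# Cohomology with support in the closed point of `G_a` and of `ℤ/p`
-/

set_option autoImplicit false
set_option linter.all false
set_option backward.isDefEq.respectTransparency.types false
set_option backward.isDefEq.respectTransparency false
set_option backward.defeqAttrib.useBackward true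
set_option maxHeartbeats 1000000

universe u

open CategoryTheory CategoryTheory.Limits AlgebraicGeometry Opposite

namespace Groth.Agent.Et18.ASPunct

variable {X U : Scheme.{u}} (j : U ⟶ X) [IsOpenImmersion j] [EtShriek.JCont j]

/-- Restriction of `G_a`. -/
noncomputable def pullGa : (EtCoh.pull j).obj (EtCoh.Ga X) ≅ EtCoh.Ga U :=
  (pullRestrIso j).app _ ≪≫ Iso.refl _

/-- The unit on global sections is the restriction map. -/
theorem unit_top (a : Γ(X, ⊤)) :
    ((EtCore.gsec X).map (EtDual.unitApp j (EtCoh.Ga X)) ≫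
      (EtCore.gsec X).map ((EtCoh.push j).map ((pullRestrIso j).hom.app (EtCoh.Ga X)))) (ULift.up a) =
    ULift.up (((compBcAdj j).counit.app (EtCoh.top X)).left.appTop.hom a) := by
  have h := Adjunction.unit_leftAdjointUniq_hom_app (EtCoh.pullPushAdj j) (restrPushAdj j) (EtCoh.Ga X)
  rw [← Functor.map_comp]
  erw [show EtDual.unitApp j (EtCoh.Ga X) ≫ (EtCoh.push j).map ((pullRestrIso j).hom.app (EtCoh.Ga X)) = _ from h]
  rfl

theorem counit_left :
    ∃ e : ((EtShriek.compEtale j).obj ((EtCoh.bc j).obj (EtCoh.top X))).left ≅ U,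
      ((compBcAdj j).counit.app (EtCoh.top X)).left = e.hom ≫ j := by
  have : IsIso (pullback.snd (EtCoh.top X).hom j) := by
    show IsIso (pullback.snd (𝟙 X) j); infer_instance
  refine ⟨asIso (pullback.snd (EtCoh.top X).hom j), ?_⟩
  have := pullback.condition (f := (EtCoh.top X).hom) (g := j)
  exact (show ((compBcAdj j).counit.app (EtCoh.top X)).left = pullback.fst (EtCoh.top X).hom j from rfl).trans
    ((Category.comp_id _).symm.trans this)

theorem unit_top_inj (hj : Function.Injective j.appTop.hom) :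
    Function.Injective ((EtCore.gsec X).map (EtDual.unitApp j (EtCoh.Ga X))) := by
  obtain ⟨e, he⟩ := counit_left j
  intro a b hab
  obtain ⟨a⟩ := a
  obtain ⟨b⟩ := b
  have h := congrArg ((EtCore.gsec X).map ((EtCoh.push j).map ((pullRestrIso j).hom.app (EtCoh.Ga X)))) hab
  have h' := congrArg ULift.down ((unit_top j a).symm.trans (h.trans (unit_top j b)))
  simp only [he, Scheme.Hom.comp_appTop] at h'
  exact congrArg ULift.up (hj (((ConcreteCategory.isIso_iff_bijective e.hom.appTop).1 inferInstance).1 h'))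

theorem unit_top_bij (hj : Function.Bijective j.appTop.hom) :
    Function.Bijective ((EtCore.gsec X).map (EtDual.unitApp j (EtCoh.Ga X))) := by
  refine ⟨unit_top_inj j hj.1, fun t => ?_⟩
  obtain ⟨e, he⟩ := counit_left j
  let m := (EtCore.gsec X).map ((EtCoh.push j).map ((pullRestrIso j).hom.app (EtCoh.Ga X)))
  obtain ⟨r, hr⟩ := ((ConcreteCategory.isIso_iff_bijective e.hom.appTop).1 inferInstance).2 (m t).down
  obtain ⟨s, hs⟩ := hj.2 r
  refine ⟨ULift.up s, ((ConcreteCategory.isIso_iff_bijective m).1 inferInstance).1 ?_⟩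
  refine (unit_top j s).trans (ULift.ext _ _ ?_)
  show ((compBcAdj j).counit.app (EtCoh.top X)).left.appTop.hom s = (m t).down
  rw [he, Scheme.Hom.comp_appTop, ← hr, ← hs]
  rfl

theorem isZero_gsec_Ga [IsAffine X] (n : ℕ) :
    IsZero (((EtCore.gsec X).rightDerived (n + 1)).obj (EtCoh.Ga X)) := by
  haveI := Groth.Agent.QCohLoc.isQCoh_structureModule X
  refine IsZero.of_iso ?_ ((EtStalkLib.gsecDerivedIso X (n + 1)).app _)
  have : Subsingleton (EtCoh.H X (EtCoh.Ga X) (n + 1)) :=
    Groth.Agent.Desc19b.EtQCoh.subsingleton_H _ (Groth.Agent.Desc19b.EtQCoh.isAssoc_Ga X) n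
  exact @AddCommGrpCat.isZero_of_subsingleton _ this

variable (R : Type u) [CommRing R] [IsNoetherianRing R] [IsLocalRing R]

theorem puncturedSpec_eq :
    FEt.puncturedSpec R = _root_.LocCoh.puncturedOpen R (IsLocalRing.maximalIdeal R) := by
  ext x
  show x ≠ IsLocalRing.closedPoint R ↔ ¬ x ∈ PrimeSpectrum.zeroLocus (IsLocalRing.maximalIdeal R : Set R)
  refine not_congr ⟨fun h => by rw [h]; exact fun a ha => ha, fun h => ?_⟩
  refine PrimeSpectrum.ext ?_
  exact ((IsLocalRing.maximalIdeal.isMaximal R).eq_of_le x.2.ne_top h).symm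

theorem isZero_gsec_Ga_punctured {d q : ℕ} (hd : (d : ℕ∞) ≤ _root_.LocCoh.depth R R) (hq : q + 1 + 1 < d) :
    IsZero (((EtCore.gsec (FEt.puncturedSpec R : Scheme.{u})).rightDerived (q + 1)).obj
      (EtCoh.Ga (FEt.puncturedSpec R : Scheme.{u}))) := by
  let U := FEt.puncturedSpec R
  refine IsZero.of_iso ?_ ((EtStalkLib.gsecDerivedIso (U : Scheme.{u}) (q + 1)).app _)
  suffices Subsingleton (EtCoh.H (U : Scheme.{u}) (EtCoh.Ga (U : Scheme.{u})) (q + 1)) from
    @AddCommGrpCat.isZero_of_subsingleton _ this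
  suffices Subsingleton (Coh.HH (U : Scheme.{u}) (Coh.structureModule (U : Scheme.{u})) (q + 1)) from
    haveI : EtZar.ZarCont (U : Scheme.{u}) := Groth.Agent.Desc19b.EtQCoh.zarCont _
    (EtASLib.cmp_bijective (q + 1)).2.subsingleton
  haveI : IsNoetherianRing (CommRingCat.of R) := ‹IsNoetherianRing R›
  have hsub := (LocCoh.natCast_le_idealDepth_iff_H (I := IsLocalRing.maximalIdeal R) (M := R) d).1 hd
    (q + 1 + 1) hq
  obtain ⟨e⟩ := CAlgH3.PuncturedCoh.nonempty_main (R := CommRingCat.of R) (IsLocalRing.maximalIdeal R)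
    (ModuleCat.of R R) q
  let iso : (tilde (ModuleCat.of (CommRingCat.of R) R)).restrict U.ι ≅ Coh.structureModule (U : Scheme.{u}) :=
    (Scheme.Modules.restrictFunctor U.ι).mapIso tildeSelf ≪≫ Scheme.Modules.restrictUnitIso U.ι
  have h1 : Subsingleton (Coh.HH (U : Scheme.{u}) ((tilde (ModuleCat.of (CommRingCat.of R) R)).restrict U.ι) (q + 1)) := by
    show Subsingleton (Coh.HH (FEt.puncturedSpec R : Scheme.{u})
      ((tilde (ModuleCat.of (CommRingCat.of R) R)).restrict (FEt.puncturedSpec R).ι) (q + 1))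
    rw [puncturedSpec_eq R]
    exact e.injective.subsingleton
  have := (Sheaf.functorH _ (q + 1)).mapIso ((SheafOfModules.toSheaf _).mapIso iso)
  exact @Function.Injective.subsingleton _ _ _ this.addCommGroupIsoToAddEquiv.symm.injective h1

theorem depth_bij [Fact ((2 : ℕ∞) ≤ _root_.LocCoh.depth R R)] :
    Function.Bijective (FEt.puncturedSpec R).ι.appTop.hom :=
  FEtFF.Hartogs.bijective_ι_app (FEt.puncturedSpec R)
    (FEtFF.Hartogs.two_le_depth_stalk (Fact.out)) (isAffineOpen_top _)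

theorem depth_one_inj (h : (1 : ℕ∞) ≤ _root_.LocCoh.depth R R) :
    Function.Injective (FEt.puncturedSpec R).ι.appTop.hom := by
  have h0 := (LocCoh.natCast_le_idealDepth_iff_H (I := IsLocalRing.maximalIdeal R) (M := R) 1).1
    (by exact_mod_cast h) 0 Nat.zero_lt_one
  obtain ⟨x, hxm, hx⟩ := LocCoh.exists_regular_of_powTorsion_eq_bot (LocCoh.subsingleton_H0_iff.1 h0)
  let S := Spec (CommRingCat.of R)
  let a : Γ(S, ⊤) := (Scheme.ΓSpecIso (CommRingCat.of R)).inv x
  have hle : S.basicOpen a ≤ FEt.puncturedSpec R := by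
    intro p hp
    rw [basicOpen_eq_of_affine] at hp
    intro hpc
    rw [show p = IsLocalRing.closedPoint R from hpc] at hp
    refine hp ?_
    exact hxm
  intro s t hst
  rw [Scheme.Opens.ι_appTop] at hst
  have h2 : (S.presheaf.map (homOfLE (le_top : S.basicOpen a ≤ ⊤)).op).hom s =
      (S.presheaf.map (homOfLE (le_top : S.basicOpen a ≤ ⊤)).op).hom t := by
    have hle' : S.basicOpen a ≤ (FEt.puncturedSpec R).ι ''ᵁ ⊤ := by
      rw [Scheme.Opens.ι_image_top]; exact hle
    have hfac : ∀ r : Γ(S, ⊤), (S.presheaf.map (homOfLE hle').op).hom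
        ((S.presheaf.map (homOfLE (le_top : (FEt.puncturedSpec R).ι ''ᵁ ⊤ ≤ ⊤)).op).hom r) =
        (S.presheaf.map (homOfLE (le_top : S.basicOpen a ≤ ⊤)).op).hom r := fun r => by
      rw [← RingHom.comp_apply, ← CommRingCat.hom_comp, ← Functor.map_comp]
      rfl
    exact (hfac s).symm.trans ((congrArg (S.presheaf.map (homOfLE hle').op).hom hst).trans (hfac t))
  haveI := (isAffineOpen_top S).isLocalization_basicOpen a
  obtain ⟨⟨_, n, rfl⟩, hn⟩ := (IsLocalization.eq_iff_exists (Submonoid.powers a) Γ(S, S.basicOpen a)).1 h2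
  have e := (Scheme.ΓSpecIso (CommRingCat.of R)).commRingCatIsoToRingEquiv
  have hreg : IsSMulRegular R (x ^ n) := hx.pow n
  have hn' := congrArg (Scheme.ΓSpecIso (CommRingCat.of R)).hom.hom hn
  simp only [map_mul, map_pow, a] at hn'
  erw [(Scheme.ΓSpecIso (CommRingCat.of R)).inv_hom_id_apply] at hn'
  exact (Scheme.ΓSpecIso (CommRingCat.of R)).commRingCatIsoToRingEquiv.injective (hreg hn')

theorem isZero_HY_Ga (d : ℕ) (hd : (d : ℕ∞) ≤ _root_.LocCoh.depth R R) (i : ℕ) (hi : i < d) :
    IsZero ((EtDual.HY (FEt.puncturedSpec R).ι i).obj (EtCoh.Ga (Spec (CommRingCat.of R)))) := by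
  have hle : ∀ m : ℕ, m ≤ d → (m : ℕ∞) ≤ _root_.LocCoh.depth R R := fun m hm =>
    le_trans (by exact_mod_cast hm) hd
  haveI : EtShriek.JCont (FEt.puncturedSpec R).ι := Et18.jCont _
  match i, hi with
  | 0, hi => exact isZero_HY_zero _ _ (by
      have h := depth_one_inj R (by exact_mod_cast hle 1 hi)
      exact unit_top_inj _ h)
  | 1, hi =>
    haveI : Fact ((2 : ℕ∞) ≤ _root_.LocCoh.depth R R) := ⟨by exact_mod_cast hle 2 hi⟩
    exact isZero_HY_one _ _ (isZero_gsec_Ga 0) (unit_top_bij _ (depth_bij R)).2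
  | q + 2, hi =>
    refine isZero_HY_succ _ _ (q + 1) (isZero_gsec_Ga (q + 1)) ?_
    exact IsZero.of_iso (isZero_gsec_Ga_punctured R hd (by omega))
      (((EtCore.gsec _).rightDerived (q + 1)).mapIso (pullGa _))

theorem isZero_HY_const (p : ℕ) [Fact p.Prime] [CharP R p] [HenselianLocalRing R]
    [IsSepClosed (IsLocalRing.ResidueField R)] (d : ℕ) (hd : (d : ℕ∞) ≤ _root_.LocCoh.depth R R) (i : ℕ) (hi : i < d) :
    IsZero ((EtDual.HY (FEt.puncturedSpec R).ι i).obj (EtCoh.const (Spec (CommRingCat.of R)) (ZMod p))) := by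
  let S := Spec (CommRingCat.of R)
  haveI : EtShriek.JCont (FEt.puncturedSpec R).ι := Et18.jCont _
  have h0 : (p : Γ(S, ⊤)) = 0 := by
    rw [← map_natCast (Scheme.ΓSpecIso (CommRingCat.of R)).inv.hom p]
    rw [CharP.cast_eq_zero (R := R)]
    exact map_zero _
  haveI := EtASLib.epi_asMap p h0
  obtain ⟨e⟩ := EtASLib.nonempty_kernel_iso p h0
  let T : ShortComplex (EtCoh.Ab S) := ShortComplex.mk _ _ (kernel.condition (EtASLib.asMap p h0))
  have hT : T.ShortExact := { exact := ShortComplex.exact_kernel (EtASLib.asMap p h0) }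
  refine IsZero.of_iso ?_ (((EtDual.HY (FEt.puncturedSpec R).ι i).mapIso e))
  have := LocCoh.preservesFiniteLimits_secSupp (FEt.puncturedSpec R).ι
  haveI : PreservesFiniteLimits (EtDual.gammaSupp (FEt.puncturedSpec R).ι) :=
    comp_preservesFiniteLimits _ (EtCore.gsec S)
  match i, hi with
  | 0, hi =>
    have hG := isZero_HY_Ga R d hd 0 hi
    have := (hG.of_iso ((EtDual.gammaSupp (FEt.puncturedSpec R).ι).rightDerivedZeroIsoSelf.app _).symm)
    refine IsZero.of_iso ?_ ((EtDual.gammaSupp (FEt.puncturedSpec R).ι).rightDerivedZeroIsoSelf.app _)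
    exact IsZero.of_mono ((EtDual.gammaSupp _).map T.f) this
  | q + 1, hi =>
    exact Groth.Agent.DCat.CohDimShift.isZero_rightDerived_X₁ hT q (isZero_HY_Ga R d hd q (by omega)) (isZero_HY_Ga R d hd (q + 1) hi)

end Groth.Agent.Et18.ASPunct
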