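import Groth.Agent.Et18.LocCohShift
import Groth.Agent.Et18.LocCoh.Basic
import Groth.Agent.Et18.LocCoh.Mono
import Groth.Agent.EtStalkLib.StalkRpush

/-!
# The sequence of cohomology with supports on global sections
-/

set_option autoImplicit false
set_option linter.all false
set_option backward.isDefEq.respectTransparency.types false
set_option backward.isDefEq.respectTransparency false
set_option backward.defeqAttrib.useBackward true
set_option maxHeartbeats 800000

universe u

open CategoryTheory CategoryTheory.Limits AlgebraicGeometry Opposite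

namespace Groth.Agent.Et18.ASPunct

variable {X U : Scheme.{u}} (j : U ⟶ X) [IsOpenImmersion j] [EtShriek.JCont j] (F : EtCoh.Ab X)

/-- The short exact sequence of complexes of global sections. -/
noncomputable def gseq : ShortComplex (CochainComplex AddCommGrpCat.{u + 1} ℕ) :=
  (LocCohShift.seq j F).map ((EtCore.gsec X).mapHomologicalComplex _)

theorem gseq_shortExact : (gseq j F).ShortExact := by
  refine HomologicalComplex.shortExact_of_degreewise_shortExact _ fun n => ?_
  have hs := (LocCohShift.seq_shortExact j F).map_of_exact (HomologicalComplex.eval _ _ n)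
  have : Injective (((LocCohShift.seq j F).map (HomologicalComplex.eval _ _ n)).X₁) :=
    LocCoh.injective_secSupp j _
  exact (hs.splittingOfInjective.map (EtCore.gsec X)).shortExact

/-- The first complex computes cohomology with supports. -/
noncomputable def iso₁ (n : ℕ) : (EtDual.HY j n).obj F ≅ (gseq j F).X₁.homology n :=
  (injectiveResolution F).isoRightDerivedObj (EtDual.gammaSupp j) n

/-- The middle complex computes cohomology. -/
noncomputable def iso₂ (n : ℕ) : ((EtCore.gsec X).rightDerived n).obj F ≅ (gseq j F).X₂.homology n :=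
  (injectiveResolution F).isoRightDerivedObj (EtCore.gsec X) n

/-- The last complex computes the cohomology of the open. -/
noncomputable def iso₃ (n : ℕ) :
    ((EtCore.gsec U).rightDerived n).obj ((EtCoh.pull j).obj F) ≅ (gseq j F).X₃.homology n :=
  (LocCohShift.pullRes j F).isoRightDerivedObj (EtCore.gsec U) n ≪≫
    (HomologicalComplex.homologyFunctor AddCommGrpCat.{u + 1} _ n).mapIso
      ((NatIso.mapHomologicalComplex (EtCore.pushGsecIso j) (ComplexShape.up ℕ)).app
        (LocCohShift.pullRes j F).cocomplex).symm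

theorem isZero_HY_succ (q : ℕ) (h₂ : IsZero (((EtCore.gsec X).rightDerived (q + 1)).obj F))
    (h₃ : IsZero (((EtCore.gsec U).rightDerived q).obj ((EtCoh.pull j).obj F))) :
    IsZero ((EtDual.HY j (q + 1)).obj F) := by
  refine (((gseq_shortExact j F).homology_exact₁ q (q + 1) rfl).isZero_X₂
    ((h₃.of_iso (iso₃ j F q).symm).eq_of_src _ _) ((h₂.of_iso (iso₂ j F (q + 1)).symm).eq_of_tgt _ _)).of_iso
      (iso₁ j F (q + 1))

theorem isZero_HY_one (h₂ : IsZero (((EtCore.gsec X).rightDerived 1).obj F))
    (hsurj : Function.Surjective ((EtCore.gsec X).map (EtDual.unitApp j F))) :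
    IsZero ((EtDual.HY j 1).obj F) := by
  let I := injectiveResolution F
  let G := EtCore.gsec X
  let T : EtCoh.Ab X ⥤ EtCoh.Ab X := EtCoh.pull j ⋙ EtCoh.push j
  have : (EtCoh.push j).IsRightAdjoint := ⟨_, ⟨EtCoh.pullPushAdj j⟩⟩
  have : PreservesFiniteLimits T := comp_preservesFiniteLimits _ _
  have : PreservesFiniteLimits (T ⋙ G) := comp_preservesFiniteLimits _ _
  have hS := gseq_shortExact j F
  let C₂ := (gseq j F).X₂
  let C₃ := (gseq j F).X₃
  have hnext : (ComplexShape.up ℕ).next 0 = 1 := ComplexShape.next_eq' _ rfl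
  have w₂ : G.map (I.ι.f 0) ≫ C₂.d 0 1 = 0 :=
    (G.map_comp _ _).symm.trans ((congrArg G.map I.ι_f_zero_comp_complex_d).trans (G.map_zero _ _))
  have w₃ : (T ⋙ G).map (I.ι.f 0) ≫ C₃.d 0 1 = 0 :=
    ((T ⋙ G).map_comp _ _).symm.trans
      ((congrArg (T ⋙ G).map I.ι_f_zero_comp_complex_d).trans ((T ⋙ G).map_zero _ _))
  let l₂ := C₂.liftCycles (G.map (I.ι.f 0)) 1 hnext w₂
  let l₃ := C₃.liftCycles ((T ⋙ G).map (I.ι.f 0)) 1 hnext w₃
  have k₃ : IsLimit (KernelFork.ofι ((T ⋙ G).map (I.ι.f 0)) w₃) :=
    KernelFork.mapIsLimit _ I.isLimitKernelFork (T ⋙ G)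
  have i₃ : IsIso l₃ := by
    have e : l₃ = (k₃.conePointUniqueUpToIso (C₃.cyclesIsKernel 0 1 hnext)).hom := by
      rw [← cancel_mono (C₃.iCycles 0), HomologicalComplex.liftCycles_i]
      exact (IsLimit.conePointUniqueUpToIso_hom_comp k₃ (C₃.cyclesIsKernel 0 1 hnext) WalkingParallelPair.zero).symm
    rw [e]; infer_instance
  have : Epi (G.map (EtDual.unitApp j F)) := (AddCommGrpCat.epi_iff_surjective _).2 hsurj
  have w : G.map (EtDual.unitApp j F) ≫ (l₃ ≫ C₃.homologyπ 0) =
      (l₂ ≫ C₂.homologyπ 0) ≫ HomologicalComplex.homologyMap (gseq j F).g 0 := by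
    rw [Category.assoc, HomologicalComplex.homologyπ_naturality, ← Category.assoc, ← Category.assoc]
    congr 1
    rw [← cancel_mono (C₃.iCycles 0), Category.assoc, Category.assoc, HomologicalComplex.liftCycles_i,
      HomologicalComplex.cyclesMap_i, HomologicalComplex.liftCycles_i_assoc]
    exact (G.map_comp _ _).symm.trans
      ((congrArg G.map ((EtCoh.pullPushAdj j).unit.naturality (I.ι.f 0)).symm).trans (G.map_comp _ _))
  have : Epi ((l₂ ≫ C₂.homologyπ 0) ≫ HomologicalComplex.homologyMap (gseq j F).g 0) := by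
    rw [← w]; exact epi_comp _ _
  have hg : Epi (HomologicalComplex.homologyMap (gseq j F).g 0) :=
    epi_of_epi (l₂ ≫ C₂.homologyπ 0) _
  have hδ : hS.δ 0 1 rfl = 0 := by
    rw [← cancel_epi (HomologicalComplex.homologyMap (gseq j F).g 0), hS.comp_δ, comp_zero]
  exact ((hS.homology_exact₁ 0 1 rfl).isZero_X₂ hδ ((h₂.of_iso (iso₂ j F 1).symm).eq_of_tgt _ _)).of_iso
    (iso₁ j F 1)

theorem isZero_HY_zero (hinj : Function.Injective ((EtCore.gsec X).map (EtDual.unitApp j F))) :
    IsZero ((EtDual.HY j 0).obj F) := by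
  have := LocCoh.preservesFiniteLimits_secSupp j
  have : PreservesFiniteLimits (EtDual.gammaSupp j) := comp_preservesFiniteLimits _ (EtCore.gsec X)
  have := (AddCommGrpCat.mono_iff_injective _).2 hinj
  refine IsZero.of_iso ?_ ((EtDual.gammaSupp j).rightDerivedZeroIsoSelf.app F)
  show IsZero ((EtCore.gsec X).obj (kernel (EtDual.unitApp j F)))
  exact IsZero.of_iso (isZero_kernel_of_mono _) (PreservesKernel.iso (EtCore.gsec X) _)

end Groth.Agent.Et18.ASPunct
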